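import Mathlib

/-!
Filtrations indexed by a linear order: jumps and splittings.
-/

set_option autoImplicit false

universe u v w

open scoped TensorProduct

namespace Groth.Agent.FiltSplit2

section Field

variable {Γ : Type w} [LinearOrder Γ] {K : Type u} [Field K] {W : Type v} [AddCommGroup W]
  [Module K W] [FiniteDimensional K W]

/-- The jump of a filtration. -/
noncomputable def jump (A : Γ → Submodule K W) (γ : Γ) : ℕ :=
  Module.finrank K (A γ) - Module.finrank K ↥(⨆ η ∈ Set.Ioi γ, A η)

theorem sum_jump_le {A : Γ → Submodule K W} (hA : Antitone A) (S : Finset Γ) :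
    ∀ V : Submodule K W, (∀ γ ∈ S, A γ ≤ V) → ∑ γ ∈ S, jump A γ ≤ Module.finrank K V := by
  induction S using Finset.induction_on_min with
  | empty => intro V _; simp
  | insert a s has ih =>
    intro V hV
    rw [Finset.sum_insert fun h => lt_irrefl a (has a h)]
    have h1 := ih (⨆ η ∈ Set.Ioi a, A η) fun γ hγ =>
      le_iSup₂ (f := fun η (_ : η ∈ Set.Ioi a) => A η) γ (has γ hγ)
    have h2 := Submodule.finrank_mono (hV a (Finset.mem_insert_self a s))
    have h3 : Module.finrank K ↥(⨆ η ∈ Set.Ioi a, A η) ≤ Module.finrank K (A a) :=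
      Submodule.finrank_mono (iSup₂_le fun η hη => hA (le_of_lt hη))
    unfold jump
    unfold jump at h1
    omega

theorem finsum_jump_eq_top {A : Γ → Submodule K W} (hA : Antitone A) (V : Submodule K W)
    (hV : ∀ γ, A γ ≤ (V ⊓ A γ) ⊔ ⨆ η ∈ Set.Ioi γ, A η)
    (h : Module.finrank K W = ∑ᶠ γ, jump A γ) : V = ⊤ := by
  classical
  have hjump : ∀ γ, jump A γ ≤ jump (fun η => V ⊓ A η) γ := by
    intro γ
    set P := ⨆ η ∈ Set.Ioi γ, A η with hP
    set P' := ⨆ η ∈ Set.Ioi γ, V ⊓ A η with hP'
    have hPle : P ≤ A γ := iSup₂_le fun η hη => hA (le_of_lt hη)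
    have hP'le : P' ≤ (V ⊓ A γ) ⊓ P := iSup₂_le fun η hη =>
      le_inf (inf_le_inf_left _ (hA (le_of_lt hη)))
        (inf_le_right.trans (le_iSup₂ (f := fun η (_ : η ∈ Set.Ioi γ) => A η) η hη))
    have e : (V ⊓ A γ) ⊔ P = A γ := le_antisymm (sup_le inf_le_right hPle) (hV γ)
    have h1 := Submodule.finrank_sup_add_finrank_inf_eq (V ⊓ A γ) P
    rw [e] at h1
    have h2 := Submodule.finrank_mono hP'le
    change Module.finrank K (A γ) - Module.finrank K P ≤
      Module.finrank K ↥(V ⊓ A γ) - Module.finrank K P'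
    omega
  rcases Nat.eq_zero_or_pos (Module.finrank K W) with h0 | h0
  · refine Submodule.eq_top_of_finrank_eq ?_
    have := Submodule.finrank_le V
    omega
  have hfin : (Function.support fun γ => jump A γ).Finite := by
    by_contra hinf
    rw [finsum_of_infinite_support hinf] at h
    omega
  refine Submodule.eq_top_of_finrank_eq (le_antisymm (Submodule.finrank_le V) ?_)
  rw [h, finsum_eq_sum _ hfin]
  exact (Finset.sum_le_sum fun γ _ => hjump γ).trans
    (sum_jump_le (fun a b hab => inf_le_inf_left _ (hA hab)) _ V fun γ _ => inf_le_left)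

end Field

variable {Γ : Type w} [LinearOrder Γ] {R : Type u} [CommRing R] {M : Type v} [AddCommGroup M]
  [Module R M]

lemma baseChange_iSup {ι : Sort*} (A : Type*) [CommRing A] [Algebra R A] (p : ι → Submodule R M) :
    (⨆ i, p i).baseChange A = ⨆ i, (p i).baseChange A := by
  refine le_antisymm ?_ (iSup_le fun i => Submodule.baseChange_mono _ (le_iSup p i))
  rw [Submodule.baseChange_eq_span, Submodule.span_le]
  rintro _ ⟨x, hx, rfl⟩
  refine Submodule.iSup_induction p (motive := fun x => (TensorProduct.mk R A M 1) x ∈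
    ⨆ i, (p i).baseChange A) hx (fun i y hy => Submodule.mem_iSup_of_mem i
      (Submodule.tmul_mem_baseChange_of_mem 1 hy)) (by simp) fun y z hy hz => ?_
  rw [map_add]
  exact Submodule.add_mem _ hy hz

theorem eq_top_of_baseChange_residueField [Module.Finite R M] (N : Submodule R M)
    (h : ∀ p : PrimeSpectrum R, N.baseChange p.asIdeal.ResidueField = ⊤) : N = ⊤ := by
  have hsub : Subsingleton (M ⧸ N) := by
    rw [← Module.support_eq_empty_iff (R := R), Set.eq_empty_iff_forall_notMem]
    intro p hp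
    rw [Module.mem_support_iff_nontrivial_residueField_tensorProduct] at hp
    refine not_subsingleton_iff_nontrivial.2 hp ⟨fun a b => ?_⟩
    suffices ∀ a : p.asIdeal.ResidueField ⊗[R] (M ⧸ N), a = 0 by rw [this a, this b]
    intro a
    obtain ⟨b, rfl⟩ := LinearMap.lTensor_surjective p.asIdeal.ResidueField N.mkQ_surjective a
    have hb : b ∈ N.baseChange p.asIdeal.ResidueField := by rw [h p]; trivial
    obtain ⟨c, rfl⟩ := hb
    rw [LinearMap.baseChange_eq_ltensor]
    rw [← LinearMap.comp_apply, ← LinearMap.lTensor_comp]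
    have : N.mkQ ∘ₗ N.subtype = 0 := LinearMap.ext fun x => by simp
    rw [this, LinearMap.lTensor_zero, LinearMap.zero_apply]
  rw [Submodule.Quotient.subsingleton_iff] at hsub
  exact hsub

/-- Sections of the graded pieces give an independent family. -/
theorem isInternal_of_sections [DecidableEq Γ] (F G : Γ → Submodule R M) (hF : Antitone F)
    (hGF : ∀ γ, G γ ≤ F γ) (hGdisj : ∀ γ, G γ ⊓ (⨆ η ∈ Set.Ioi γ, F η) = ⊥)
    (htop : (⨆ γ, G γ) = ⊤) :
    DirectSum.IsInternal G ∧ ∀ γ, F γ = ⨆ η ∈ Set.Ici γ, G η := by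
  classical
  have key : ∀ (x : DirectSum Γ fun γ => ↥(G γ)) (γ : Γ),
      DirectSum.coeLinearMap G x ∈ F γ → ∀ η ∈ DFinsupp.support x, γ ≤ η := by
    intro x γ hx η hη
    by_contra hlt
    have hne : (DFinsupp.support x).Nonempty := ⟨η, hη⟩
    set a := (DFinsupp.support x).min' hne with ha
    have haη : a < γ := lt_of_le_of_lt (Finset.min'_le _ _ hη) (not_le.1 hlt)
    have hmem := Finset.min'_mem _ hne
    rw [DirectSum.coeLinearMap_eq_dfinsuppSum, DFinsupp.sum,
      ← Finset.add_sum_erase _ _ hmem] at hx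
    have hrest : (∑ i ∈ (DFinsupp.support x).erase a, (x i : M)) ∈ ⨆ η ∈ Set.Ioi a, F η := by
      refine Submodule.sum_mem _ fun i hi => ?_
      rw [Finset.mem_erase] at hi
      have hai : a < i := lt_of_le_of_ne (Finset.min'_le _ _ hi.2) hi.1.symm
      exact Submodule.mem_iSup_of_mem i (Submodule.mem_iSup_of_mem hai (hGF i (x i).2))
    have hxF : (x a : M) + (∑ i ∈ (DFinsupp.support x).erase a, (x i : M)) ∈
        ⨆ η ∈ Set.Ioi a, F η :=
      Submodule.mem_iSup_of_mem γ (Submodule.mem_iSup_of_mem haη hx)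
    have hxa : (x a : M) ∈ G a ⊓ (⨆ η ∈ Set.Ioi a, F η) :=
      ⟨(x a).2, by simpa using Submodule.sub_mem _ hxF hrest⟩
    rw [hGdisj, Submodule.mem_bot] at hxa
    exact DFinsupp.mem_support_iff.1 hmem (Subtype.ext hxa)
  have hinj : Function.Injective (DirectSum.coeLinearMap G) := by
    rw [injective_iff_map_eq_zero]
    intro x hx
    by_contra hne
    have hne' : (DFinsupp.support x).Nonempty := by
      rw [Finset.nonempty_iff_ne_empty]
      exact fun h => hne (DFinsupp.support_eq_empty.1 h)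
    set a := (DFinsupp.support x).min' hne'
    have hmem := Finset.min'_mem _ hne'
    rw [DirectSum.coeLinearMap_eq_dfinsuppSum, DFinsupp.sum, ← Finset.add_sum_erase _ _ hmem,
      add_eq_zero_iff_eq_neg] at hx
    have hxa : (x a : M) ∈ G a ⊓ (⨆ η ∈ Set.Ioi a, F η) := by
      refine ⟨(x a).2, ?_⟩
      rw [SetLike.mem_coe, hx]
      refine Submodule.neg_mem _ (Submodule.sum_mem _ fun i hi => ?_)
      rw [Finset.mem_erase] at hi
      have hai : a < i := lt_of_le_of_ne (Finset.min'_le _ _ hi.2) hi.1.symm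
      exact Submodule.mem_iSup_of_mem i (Submodule.mem_iSup_of_mem hai (hGF i (x i).2))
    rw [hGdisj, Submodule.mem_bot] at hxa
    exact DFinsupp.mem_support_iff.1 hmem (Subtype.ext hxa)
  have hsurj : Function.Surjective (DirectSum.coeLinearMap G) := by
    rw [← LinearMap.range_eq_top, DirectSum.range_coeLinearMap, htop]
  refine ⟨⟨hinj, hsurj⟩, fun γ => le_antisymm (fun x hx => ?_)
    (iSup₂_le fun η hη => (hGF η).trans (hF hη))⟩
  obtain ⟨y, rfl⟩ := hsurj x
  have := key y γ hx
  rw [DirectSum.coeLinearMap_eq_dfinsuppSum, DFinsupp.sum]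
  exact Submodule.sum_mem _ fun η hη =>
    Submodule.mem_iSup_of_mem η (Submodule.mem_iSup_of_mem (this η hη) (y η).2)

end Groth.Agent.FiltSplit2
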